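import Groth.Agent.Lib.NormMap13.Basic
import Groth.Agent.Lib.EtSite.PushExact
import Groth.Agent.Lib.EtTrace21.Killed
import Groth.Agent.S14451
import Groth.Prelude.Def_EtLim
import Groth.Prelude.Def_Dix
import Groth.Prelude.Def_Mor2

/-!
# The norm on `G_m` along a finite locally free morphism, and torsion of étale cohomology
-/

set_option autoImplicit false
set_option linter.all false
set_option backward.isDefEq.respectTransparency false
set_option backward.isDefEq.respectTransparency.types false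

universe u

open CategoryTheory CategoryTheory.Limits CategoryTheory.Abelian AlgebraicGeometry Opposite

noncomputable section

namespace GrothLib.NormBr2

open GrothLib.NormMap13

/-- The norm of a function coming from the base is a power of it. -/
theorem norm_appTop {T T' : Scheme.{u}} (g : T' ⟶ T) [IsFinite g] [Flat g] [LocallyOfFinitePresentation g]
    (n : ℕ) (h : ∀ t, g.finrank t = n) (s : Γ(T, ⊤)) : norm g (g.appTop s) = s ^ n := by
  refine (isNorm_norm g _).eq fun W hW hf => ?_
  rw [map_pow]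
  letI := (g.app W).hom.toAlgebra
  haveI : Module.Free Γ(T, W) Γ(T', g ⁻¹ᵁ W) := hf
  haveI : Module.Finite Γ(T, W) Γ(T', g ⁻¹ᵁ W) := g.finite_app W hW
  have e : T'.presheaf.map (homOfLE le_top).op (g.appTop s) =
      algebraMap Γ(T, W) Γ(T', g ⁻¹ᵁ W) (T.presheaf.map (homOfLE le_top).op s) := by
    have := congrArg (fun k => k s) (Scheme.Hom.naturality g (homOfLE (le_top : W ≤ ⊤)).op)
    exact this.symm
  rw [e]
  change _ = Algebra.norm Γ(T, W) (algebraMap Γ(T, W) Γ(T', g ⁻¹ᵁ W) _)
  rcases subsingleton_or_nontrivial Γ(T, W) with hs | hs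
  · exact Subsingleton.elim _ _
  rw [Algebra.norm_algebraMap_of_basis (Module.Free.chooseBasis Γ(T, W) Γ(T', g ⁻¹ᵁ W)),
    ← Module.finrank_eq_card_chooseBasisIndex]
  congr 1
  obtain ⟨p⟩ := (PrimeSpectrum.nonempty_iff_nontrivial (R := Γ(T, W))).2 hs
  rw [← h (hW.fromSpec p), GrothLib.FEt21.finrank_eq_finrank g hW p]
  exact (congrFun (Module.rankAtStalk_eq_finrank_of_free (R := Γ(T, W)) (M := Γ(T', g ⁻¹ᵁ W))) p)

variable {X Y : Scheme.{u}} (f : X ⟶ Y) [IsFinite f] [Flat f] [LocallyOfFinitePresentation f]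

/-- The norm `f_* G_m ⟶ G_m` on the small étale site. -/
def normSh : (EtCoh.push f).obj (EtCoh.Gm X) ⟶ EtCoh.Gm Y :=
  ObjectProperty.homMk
  { app := fun V => AddCommGrpCat.ofHom
      { toFun := fun x => ULift.up (Additive.ofMul
          (Units.map (normHom (pullback.fst (unop V).hom f)) x.down.toMul))
        map_zero' := by
          apply ULift.ext
          exact congrArg Additive.ofMul (map_one (Units.map (normHom (pullback.fst (unop V).hom f))))
        map_add' := fun x y => by
          apply ULift.ext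
          exact congrArg Additive.ofMul
            (map_mul (Units.map (normHom (pullback.fst (unop V).hom f)))
              (show (Γ(pullback (unop V).hom f, ⊤))ˣ from x.down.toMul) (show (Γ(pullback (unop V).hom f, ⊤))ˣ from y.down.toMul)) }
    naturality := fun V W g => by
      refine AddCommGrpCat.ext fun x => ?_
      apply ULift.ext
      apply congrArg Additive.ofMul
      apply Units.ext
      exact norm_baseChange (pullback.fst (unop V).hom f) (pullback.fst (unop W).hom f) (EtCoh.isPullback_bc_map f g.unop) _ }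

theorem GmPush_normSh (d : ℕ) (hd : ∀ y, f.finrank y = d) :
    EtLim.GmPush f ≫ normSh f = d • 𝟙 (EtCoh.Gm Y) := by
  refine ObjectProperty.hom_ext _ (NatTrans.ext ?_)
  funext V
  refine AddCommGrpCat.ext fun x => ?_
  have e : (d • 𝟙 (EtCoh.Gm Y) : EtCoh.Gm Y ⟶ EtCoh.Gm Y).hom.app V x = d • x :=
    map_nsmul (AddMonoidHom.mk' (fun k : EtCoh.Gm Y ⟶ EtCoh.Gm Y => k.hom.app V x) (fun a b => rfl)) d
      (𝟙 (EtCoh.Gm Y))
  rw [e]
  apply ULift.ext
  refine Eq.trans ?_ (show Additive.ofMul ((show (Γ((unop V).left, ⊤))ˣ from x.down.toMul) ^ d) = d • x.down from rfl)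
  apply congrArg Additive.ofMul
  apply Units.ext
  rw [Units.val_pow_eq_pow_val]
  refine norm_appTop _ d (fun t => ?_) _
  rw [Scheme.Hom.finrank_of_isPullback _ _ _ _ (IsPullback.of_hasPullback (unop V).hom f).flip t]
  exact hd _

theorem isAddTorsion_H (d : ℕ) (hd1 : 1 ≤ d) (hd : ∀ y, f.finrank y = d) (n : ℕ)
    (hX : IsAddTorsion (EtCoh.H X (EtCoh.Gm X) n)) : IsAddTorsion (EtCoh.H Y (EtCoh.Gm Y) n) := by
  intro α
  haveI : PreservesFiniteLimits (EtCoh.pull f) := GrothLib.EtDer.pullFL f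
  let β : EtCoh.H Y ((EtCoh.push f).obj (EtCoh.Gm X)) n :=
    Ext.comp α (Ext.mk₀ (EtLim.GmPush f)) (add_zero n)
  have hinj := (Groth.Agent.S14451.result f (EtCoh.Gm X)
    (fun q hq => GrothLib.EtSite.isZero_Rpush_of_integral f (EtCoh.Gm X) q hq) n).1
  obtain ⟨m, hm, hmx⟩ := isOfFinAddOrder_iff_nsmul_eq_zero.1 (hX (EtLim.HofPush f (EtCoh.Gm X) n β))
  have hβ : m • β = 0 := hinj (by rw [map_nsmul, hmx, map_zero])
  refine isOfFinAddOrder_iff_nsmul_eq_zero.2 ⟨m * d, Nat.mul_pos hm hd1, ?_⟩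
  have hα : d • α = Ext.comp β (Ext.mk₀ (normSh f)) (add_zero n) := by
    rw [show Ext.comp β (Ext.mk₀ (normSh f)) (add_zero n) =
      Ext.comp α (Ext.mk₀ (EtLim.GmPush f ≫ normSh f)) (add_zero n) by simp [β, Ext.mk₀_comp_mk₀],
      GmPush_normSh f d hd]
    exact (GrothLib.EtTrace21.comp_nsmul_id α d).symm
  rw [mul_nsmul', hα]
  have e := map_nsmul (AddMonoidHom.mk' (fun b : EtCoh.H Y ((EtCoh.push f).obj (EtCoh.Gm X)) n =>
    Ext.comp b (Ext.mk₀ (normSh f)) (add_zero n)) (fun a b => Ext.add_comp ..)) m β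
  simp only [AddMonoidHom.mk'_apply] at e
  rw [← e, hβ, Ext.zero_comp]

end GrothLib.NormBr2
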